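import Mathlib

/-!
Subgroups isomorphic to the alternating group of degree 4 in `GL₂(ℤ/2ᵏ)`.
-/

set_option autoImplicit false
set_option linter.style.haveILetI false
set_option linter.unusedSectionVars false

namespace CfsgLib.GLTwoAdic

open Matrix

section Algebra

variable {R : Type*} [CommRing R]

/-- `α + β ω + (γ + δ ω) j`. -/
def coordMat (α β γ δ : R) : Matrix (Fin 2) (Fin 2) R :=
  !![α - δ, γ - β; β + γ - δ, α - β + δ]

theorem coordMat_mul (a b c d a' b' c' d' : R) :
    coordMat a b c d * coordMat a' b' c' d' =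
      coordMat
        (a * a' - b * b' + (c * (c' - d') + d * d'))
        (a * b' + b * a' - b * b' + (d * (c' - d') - c * d' + d * d'))
        (a * c' - b * d' + (c * (a' - b') + d * b'))
        (a * d' + b * c' - b * d' + (d * (a' - b') - c * b' + d * b')) := by
  ext i j
  fin_cases i <;> fin_cases j <;> simp [coordMat, Matrix.mul_apply, Fin.sum_univ_two] <;> ring

theorem coordMat_inj {t : R} (ht : 3 * t = 1) {a b c d a' b' c' d' : R}
    (h : coordMat a b c d = coordMat a' b' c' d') : a = a' ∧ b = b' ∧ c = c' ∧ d = d' := by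
  have e00 := congrFun (congrFun h 0) 0
  have e01 := congrFun (congrFun h 0) 1
  have e10 := congrFun (congrFun h 1) 0
  have e11 := congrFun (congrFun h 1) 1
  simp [coordMat] at e00 e01 e10 e11
  refine ⟨?_, ?_, ?_, ?_⟩
  · linear_combination t * (e00 + 2 * e11 + e10 - e01) + (a' - a) * ht
  · linear_combination t * (2 * e10 - 2 * e01 - e00 + e11) + (b' - b) * ht
  · linear_combination t * (e01 + 2 * e10 - e00 + e11) + (c' - c) * ht
  · linear_combination t * (e10 - e01 - 2 * e00 + 2 * e11) + (d' - d) * ht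

theorem exists_coord {t : R} (ht : 3 * t = 1) (M : Matrix (Fin 2) (Fin 2) R) :
    ∃ a b c d, M = coordMat a b c d := by
  refine ⟨(M 0 0 + 2 * M 1 1 + M 1 0 - M 0 1) * t, (2 * M 1 0 - 2 * M 0 1 - M 0 0 + M 1 1) * t,
    (M 0 1 + 2 * M 1 0 - M 0 0 + M 1 1) * t, (M 1 0 - M 0 1 - 2 * M 0 0 + 2 * M 1 1) * t, ?_⟩
  ext i j
  fin_cases i <;> fin_cases j <;> simp [coordMat]
  · linear_combination (-M 0 0) * ht
  · linear_combination (-M 0 1) * ht
  · linear_combination (-M 1 0) * ht
  · linear_combination (-M 1 1) * ht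

/-- The order three matrix. -/
def om : Matrix (Fin 2) (Fin 2) R := !![0, -1; 1, -1]

theorem om_eq : (om : Matrix (Fin 2) (Fin 2) R) = coordMat 0 1 0 0 := by
  ext i j; fin_cases i <;> fin_cases j <;> simp [coordMat, om]

theorem om_pow_three : (om : Matrix (Fin 2) (Fin 2) R) * om * om = 1 := by
  ext i j; fin_cases i <;> fin_cases j <;> simp [om, Matrix.mul_apply, Fin.sum_univ_two]

theorem coordMat_one : coordMat (1 : R) 0 0 0 = 1 := by
  ext i j; fin_cases i <;> fin_cases j <;> simp [coordMat]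

theorem conj_om (a b c d : R) :
    om * coordMat a b c d * (om * om) = coordMat a b (d - c) (-c) := by
  rw [om_eq, coordMat_mul, coordMat_mul, coordMat_mul]
  congr 1 <;> ring

theorem key {t : R} (ht : 3 * t = 1) {A : Matrix (Fin 2) (Fin 2) R} (h2 : A * A = 1)
    (hc : A * (om * A * (om * om)) = om * A * (om * om) * A)
    (hp : A * (om * A * (om * om)) = om * (om * A * (om * om)) * (om * om)) :
    ∃ c d : R, 2 * c = 0 ∧ 2 * d = 0 ∧ A = coordMat 1 0 c d := by
  obtain ⟨a, b, c, d, rfl⟩ := exists_coord ht A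
  rw [conj_om, conj_om, coordMat_mul] at hp
  rw [conj_om, coordMat_mul, coordMat_mul] at hc
  rw [coordMat_mul, ← coordMat_one] at h2
  obtain ⟨p1, p2, -, -⟩ := coordMat_inj ht hp
  obtain ⟨c1, -, c3, c4⟩ := coordMat_inj ht hc
  obtain ⟨s1, s2, s3, s4⟩ := coordMat_inj ht h2
  have hN : c * c - c * d + d * d = 0 := by linear_combination c1
  have hbd : b * d = 0 := by linear_combination t * c3 - b * d * ht
  have hbc : b * c = 0 := by linear_combination (-t) * c4 + hbd - (b * c - b * d) * ht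
  have hc2 : 2 * c = 0 := by
    linear_combination a * s3 + (a - 2 * b) * hbc + (-2 * c) * s1 + 2 * c * hN
  have hd2 : 2 * d = 0 := by
    linear_combination a * s4 + (a - 2 * b) * hbd + (-2 * d) * s1 + 2 * d * hN
  refine ⟨c, d, hc2, hd2, ?_⟩
  have ha : a = 1 := by linear_combination -p1 + s1 - hN
  have hb : b = 0 := by linear_combination -p2 + s2 + hN
  rw [ha, hb]

end Algebra

variable (k : ℕ)

theorem exists_inv_three : ∃ t : ZMod (2 ^ k), 3 * t = 1 := by
  have hcop : Nat.Coprime 3 (2 ^ k) := Nat.Coprime.pow_right _ (by norm_num)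
  refine ⟨((3 : ℕ) : ZMod (2 ^ k))⁻¹, ?_⟩
  have := ZMod.coe_mul_inv_eq_one 3 hcop
  simpa using this

theorem two_torsion (hk : 1 ≤ k) {x : ZMod (2 ^ k)} (h : 2 * x = 0) :
    x = 0 ∨ x = ((2 ^ (k - 1) : ℕ) : ZMod (2 ^ k)) := by
  haveI : NeZero (2 ^ k) := ⟨pow_ne_zero _ two_ne_zero⟩
  have hk2 : 2 ^ k = 2 * 2 ^ (k - 1) := by rw [← pow_succ', Nat.sub_add_cancel hk]
  have hdvd : 2 ^ k ∣ 2 * x.val := by
    rw [← ZMod.natCast_eq_zero_iff, Nat.cast_mul, ZMod.natCast_zmod_val]
    exact_mod_cast h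
  obtain ⟨m, hm⟩ := hdvd
  have hlt := ZMod.val_lt x
  have hx : x.val = 2 ^ (k - 1) * m := by
    have h3 : 2 ^ k * m = 2 * (2 ^ (k - 1) * m) := by rw [hk2, mul_assoc]
    omega
  have hm2 : m < 2 := by
    by_contra hcon
    have : 2 ^ (k - 1) * 2 ≤ 2 ^ (k - 1) * m := Nat.mul_le_mul_left _ (by omega)
    rw [mul_comm 2] at hk2
    omega
  rw [← ZMod.natCast_zmod_val x, hx]
  interval_cases m <;> simp

theorem exists_eq_two_mul (hk : 1 ≤ k) (x : ZMod (2 ^ k))
    (h : ZMod.castHom (dvd_pow_self 2 (by omega : k ≠ 0)) (ZMod 2) x = 0) :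
    ∃ y, x = 2 * y := by
  haveI : NeZero (2 ^ k) := ⟨pow_ne_zero _ two_ne_zero⟩
  rw [← ZMod.natCast_zmod_val x, map_natCast, ZMod.natCast_eq_zero_iff] at h
  obtain ⟨m, hm⟩ := h
  refine ⟨(m : ZMod (2 ^ k)), ?_⟩
  rw [← ZMod.natCast_zmod_val x, hm]
  push_cast
  ring

/-- The reduction modulo 2. -/
def red (hk : 1 ≤ k) : GL (Fin 2) (ZMod (2 ^ k)) →* GL (Fin 2) (ZMod 2) :=
  Units.map (ZMod.castHom (dvd_pow_self 2 (by omega : k ≠ 0)) (ZMod 2)).mapMatrix.toMonoidHom

theorem isPGroup_ker (hk : 1 ≤ k) : IsPGroup 2 (red k hk).ker := by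
  intro g
  refine ⟨k, Subtype.ext (Units.ext ?_)⟩
  have h1 : ((ZMod.castHom (dvd_pow_self 2 (by omega : k ≠ 0)) (ZMod 2)).mapMatrix
      ((g : GL (Fin 2) (ZMod (2 ^ k))) : Matrix (Fin 2) (Fin 2) (ZMod (2 ^ k)))) = 1 :=
    congrArg Units.val g.2
  have hstart : ∃ m : Matrix (Fin 2) (Fin 2) (ZMod (2 ^ k)),
      ((g : GL (Fin 2) (ZMod (2 ^ k))) : Matrix (Fin 2) (Fin 2) (ZMod (2 ^ k))) = 1 + 2 • m := by
    have h2 : ∀ i j, ∃ y, (((g : GL (Fin 2) (ZMod (2 ^ k))) : Matrix (Fin 2) (Fin 2) (ZMod (2 ^ k))) - 1) i j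
        = 2 * y := by
      intro i j
      refine exists_eq_two_mul k hk _ ?_
      have h3 := congrFun (congrFun h1 i) j
      simp only [RingHom.mapMatrix_apply, Matrix.map_apply] at h3
      rw [Matrix.sub_apply, map_sub, h3]
      by_cases hij : i = j
      · subst hij
        rw [Matrix.one_apply_eq, Matrix.one_apply_eq, map_one, sub_self]
      · rw [Matrix.one_apply_ne hij, Matrix.one_apply_ne hij, map_zero, sub_self]
    choose m hm using h2
    refine ⟨Matrix.of m, ?_⟩
    ext i j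
    have := hm i j
    rw [Matrix.sub_apply, sub_eq_iff_eq_add] at this
    rw [this, Matrix.add_apply, Matrix.smul_apply, Matrix.of_apply, two_nsmul]
    ring
  have key : ∀ i : ℕ, ∃ m : Matrix (Fin 2) (Fin 2) (ZMod (2 ^ k)),
      ((g : GL (Fin 2) (ZMod (2 ^ k))) : Matrix (Fin 2) (Fin 2) (ZMod (2 ^ k))) ^ 2 ^ i =
        1 + (2 ^ (i + 1)) • m := by
    intro i
    induction i with
    | zero => simpa using hstart
    | succ i ih =>
      obtain ⟨m, hm⟩ := ih
      refine ⟨m + (2 ^ i) • (m * m), ?_⟩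
      rw [pow_succ 2 i, pow_mul, hm, sq]
      simp only [mul_add, add_mul, one_mul, mul_one, smul_mul_assoc, mul_smul_comm, smul_smul,
        smul_add]
      rw [pow_succ 2 (i + 1), pow_succ 2 i]
      module
  obtain ⟨m, hm⟩ := key k
  rw [SubmonoidClass.coe_pow, Units.val_pow_eq_pow_val, hm]
  have h0 : (2 ^ (k + 1) : ℕ) • m = 0 := by
    rw [← Nat.cast_smul_eq_nsmul (ZMod (2 ^ k)), pow_succ, Nat.cast_mul, ZMod.natCast_self, zero_mul,
      zero_smul]
  rw [h0, add_zero]
  rfl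

theorem sylow_three (hk : 1 ≤ k) (H : Subgroup (GL (Fin 2) (ZMod (2 ^ k))))
    (hH : Nat.card H = 3) : ∃ P : Sylow 3 (GL (Fin 2) (ZMod (2 ^ k))),
      (P : Subgroup (GL (Fin 2) (ZMod (2 ^ k)))) = H := by
  haveI : Fact (Nat.Prime 3) := ⟨Nat.prime_three⟩
  haveI : NeZero (2 ^ k) := ⟨pow_ne_zero _ two_ne_zero⟩
  haveI : Finite (GL (Fin 2) (ZMod (2 ^ k))) := inferInstance
  have hp : IsPGroup 3 H := IsPGroup.of_card (n := 1) (by simpa using hH)
  have hdvd : ¬ 3 ∣ H.index := by
    intro h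
    obtain ⟨j, hj⟩ := IsPGroup.iff_card.1 (isPGroup_ker k hk)
    have h9 : 9 ∣ Nat.card (GL (Fin 2) (ZMod (2 ^ k))) := by
      rw [← H.card_mul_index, hH]
      exact mul_dvd_mul_left 3 h
    have h6 : Nat.card (GL (Fin 2) (ZMod 2)) = 6 := by
      rw [Matrix.card_GL_field]
      simp [Fin.prod_univ_two]
    have hd : Nat.card (GL (Fin 2) (ZMod (2 ^ k))) ∣ 2 ^ j * 6 := by
      rw [← (red k hk).ker.card_mul_index, hj, Subgroup.index_ker, ← h6]
      exact mul_dvd_mul_left _ (Subgroup.card_subgroup_dvd_card _)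
    have : 3 * 3 ∣ 3 * (2 ^ (j + 1)) := by
      have h := h9.trans hd
      rw [show 2 ^ j * 6 = 3 * 2 ^ (j + 1) by ring] at h
      exact h
    have h3 : 3 ∣ 2 ^ (j + 1) := Nat.dvd_of_mul_dvd_mul_left (by norm_num) this
    exact absurd ((Nat.prime_three.dvd_of_dvd_pow h3)) (by decide)
  exact ⟨hp.toSylow hdvd, rfl⟩

/-- The standard element of order three. -/
def omU : GL (Fin 2) (ZMod (2 ^ k)) :=
  ⟨om, om * om, by rw [← mul_assoc, om_pow_three], by rw [om_pow_three]⟩

/-- The three relations. -/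
def Rel {G : Type*} [Group G] (a x : G) : Prop :=
  a * a = 1 ∧ a * (x * a * x⁻¹) = x * a * x⁻¹ * a ∧
    a * (x * a * x⁻¹) = x * (x * a * x⁻¹) * x⁻¹ ∧
    a ≠ 1 ∧ x * a * x⁻¹ ≠ a

theorem Rel.map {G G' : Type*} [Group G] [Group G'] {a x : G} (h : Rel a x) (f : G →* G')
    (hf : Function.Injective f) : Rel (f a) (f x) := by
  obtain ⟨h1, h2, h3, h4, h5⟩ := h
  refine ⟨?_, ?_, ?_, fun h => h4 (hf (h.trans (map_one f).symm)), fun h => h5 (hf ?_)⟩
  · rw [← map_mul, h1, map_one]
  · simpa [map_mul, map_inv] using congrArg f h2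
  · simpa [map_mul, map_inv] using congrArg f h3
  · simpa [map_mul, map_inv] using h

theorem altFour_gens : ∃ a x : alternatingGroup (Fin 4), Rel a x ∧ Rel a x⁻¹ ∧ orderOf x = 3 ∧
    Subgroup.closure {a, x} = ⊤ := by
  refine ⟨⟨Equiv.swap 0 1 * Equiv.swap 2 3, Equiv.Perm.mem_alternatingGroup.2 (by decide)⟩,
    ⟨Equiv.swap 0 1 * Equiv.swap 1 2, Equiv.Perm.mem_alternatingGroup.2 (by decide)⟩, ?_, ?_, ?_, ?_⟩
  · unfold Rel
    decide
  · unfold Rel
    decide
  · exact orderOf_eq_prime (by decide) (by decide)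
  · set a : alternatingGroup (Fin 4) := ⟨Equiv.swap 0 1 * Equiv.swap 2 3, Equiv.Perm.mem_alternatingGroup.2 (by decide)⟩
    set x : alternatingGroup (Fin 4) := ⟨Equiv.swap 0 1 * Equiv.swap 1 2, Equiv.Perm.mem_alternatingGroup.2 (by decide)⟩
    rw [eq_top_iff]
    intro g _
    have hall : ∀ g : alternatingGroup (Fin 4), ∃ i j l : Fin 3,
        g = a ^ (i : ℕ) * (x * a * x⁻¹) ^ (j : ℕ) * x ^ (l : ℕ) := by decide
    obtain ⟨i, j, l, rfl⟩ := hall g
    have ha : a ∈ Subgroup.closure {a, x} := Subgroup.subset_closure (Set.mem_insert _ _)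
    have hx : x ∈ Subgroup.closure {a, x} :=
      Subgroup.subset_closure (Set.mem_insert_of_mem _ rfl)
    exact mul_mem (mul_mem (pow_mem ha _) (pow_mem (mul_mem (mul_mem hx ha) (inv_mem hx)) _))
      (pow_mem hx _)

theorem canonical (hk : 1 ≤ k) {a b : GL (Fin 2) (ZMod (2 ^ k))} (ha : Rel a (omU k))
    (hb : Rel b (omU k)) : b ∈ Subgroup.closure {a, omU k} := by
  classical
  obtain ⟨t, ht⟩ := exists_inv_three k
  set h : ZMod (2 ^ k) := ((2 ^ (k - 1) : ℕ) : ZMod (2 ^ k)) with hh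
  set w := omU k with hw
  set cand : Finset (Matrix (Fin 2) (Fin 2) (ZMod (2 ^ k))) :=
    {coordMat 1 0 0 0, coordMat 1 0 0 h, coordMat 1 0 h 0, coordMat 1 0 h h} with hcand
  have hmem : ∀ g : GL (Fin 2) (ZMod (2 ^ k)), Rel g w → (g : Matrix (Fin 2) (Fin 2) (ZMod (2 ^ k))) ∈ cand := by
    rintro g ⟨g1, g2, g3, -, -⟩
    obtain ⟨c, d, hc, hd, he⟩ := key ht (congrArg Units.val g1) (congrArg Units.val g2)
      (congrArg Units.val g3)
    rcases two_torsion k hk hc with rfl | rfl <;> rcases two_torsion k hk hd with rfl | rfl <;>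
      simp [hcand, he, ← hh]
  have w3 : w * w * w = 1 := Units.ext om_pow_three
  -- the conjugates also satisfy the relations
  have hstep : ∀ g : GL (Fin 2) (ZMod (2 ^ k)), Rel g w → Rel (w * g * w⁻¹) w := by
    intro g hg
    have := hg.map (MulAut.conj w).toMonoidHom (MulAut.conj w).injective
    simpa using this
  obtain ⟨a1, -, a3, a4, a5⟩ := id ha
  set a' := w * a * w⁻¹ with ha'
  set a'' := w * a' * w⁻¹ with ha''
  have hne'' : a'' ≠ 1 := fun h => a4 (by simpa [ha'', ha'] using h)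
  have hne' : a' ≠ 1 := fun h => a4 (by simpa [ha'] using h)
  have h13 : a'' ≠ a := by
    intro h
    refine hne' ?_
    have : a * a' = a := a3.trans h
    simpa using this
  have h23 : a'' ≠ a' := fun h => a5 (mul_left_cancel (mul_right_cancel h))
  set four : Finset (GL (Fin 2) (ZMod (2 ^ k))) := {1, a, a', a''} with hfour
  have hcard : four.card = 4 := by
    rw [hfour, Finset.card_insert_of_notMem, Finset.card_insert_of_notMem,
      Finset.card_insert_of_notMem, Finset.card_singleton]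
    · simpa using fun h => h23 h.symm
    · simp only [Finset.mem_insert, Finset.mem_singleton, not_or]
      exact ⟨fun h => a5 h.symm, fun h => h13 h.symm⟩
    · simp only [Finset.mem_insert, Finset.mem_singleton, not_or]
      exact ⟨fun h => a4 h.symm, fun h => hne' h.symm, fun h => hne'' h.symm⟩
  set imgs := four.image fun g : GL (Fin 2) (ZMod (2 ^ k)) => (g : Matrix (Fin 2) (Fin 2) (ZMod (2 ^ k)))
  have hsub : imgs ⊆ cand := by
    intro M hM
    obtain ⟨g, hg, rfl⟩ := Finset.mem_image.1 hM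
    simp only [hfour, Finset.mem_insert, Finset.mem_singleton] at hg
    rcases hg with rfl | rfl | rfl | rfl
    · simp [hcand, coordMat_one]
    · exact hmem _ ha
    · exact hmem _ (hstep _ ha)
    · exact hmem _ (hstep _ (hstep _ ha))
  have heq : imgs = cand := Finset.eq_of_subset_of_card_le hsub (by
    rw [Finset.card_image_of_injective _ (fun x y h => Units.ext h), hcard]
    exact Finset.card_le_four)
  have hb' := hmem _ hb
  rw [← heq] at hb'
  obtain ⟨g, hg, hgb⟩ := Finset.mem_image.1 hb'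
  have : g = b := Units.ext hgb
  subst this
  have hA : a ∈ Subgroup.closure {a, w} := Subgroup.subset_closure (Set.mem_insert _ _)
  have hW : w ∈ Subgroup.closure {a, w} := Subgroup.subset_closure (Set.mem_insert_of_mem _ rfl)
  simp only [hfour, Finset.mem_insert, Finset.mem_singleton] at hg
  rcases hg with rfl | rfl | rfl | rfl
  · exact one_mem _
  · exact hA
  · exact mul_mem (mul_mem hW hA) (inv_mem hW)
  · exact mul_mem (mul_mem hW (mul_mem (mul_mem hW hA) (inv_mem hW))) (inv_mem hW)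

theorem conj_standard (hk : 1 ≤ k) (H : Subgroup (GL (Fin 2) (ZMod (2 ^ k))))
    (e : H ≃* alternatingGroup (Fin 4)) :
    ∃ (g a : GL (Fin 2) (ZMod (2 ^ k))), Rel a (omU k) ∧
      H.map (MulAut.conj g).toMonoidHom = Subgroup.closure {a, omU k} := by
  haveI : NeZero (2 ^ k) := ⟨pow_ne_zero _ two_ne_zero⟩
  haveI : Fact (Nat.Prime 3) := ⟨Nat.prime_three⟩
  obtain ⟨a₀, x₀, hr, hr', hx₀, hgen⟩ := altFour_gens
  set f := H.subtype.comp e.symm.toMonoidHom with hf
  have hfinj : Function.Injective f := H.subtype_injective.comp e.symm.injective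
  have hrange : H = Subgroup.closure {f a₀, f x₀} := by
    have h1 : f.range = H := by
      rw [hf, MonoidHom.range_comp, MonoidHom.range_eq_top.2 e.symm.surjective,
        ← MonoidHom.range_eq_map, Subgroup.range_subtype]
    rw [← h1, MonoidHom.range_eq_map, ← hgen, MonoidHom.map_closure]
    simp [Set.image_insert_eq]
  set w := omU k with hw
  have hwcard : Nat.card (Subgroup.zpowers w) = 3 := by
    rw [Nat.card_zpowers]
    refine orderOf_eq_prime ?_ fun h => ?_
    · rw [pow_succ, pow_two]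
      exact Units.ext om_pow_three
    · haveI : Fact (1 < 2 ^ k) := ⟨Nat.one_lt_two_pow (by omega)⟩
      have := congrArg (fun g : GL (Fin 2) (ZMod (2 ^ k)) => (g : Matrix (Fin 2) (Fin 2) (ZMod (2 ^ k))) 1 0) h
      simp [hw, omU, om] at this
  have hxcard : Nat.card (Subgroup.zpowers (f x₀)) = 3 := by
    rw [Nat.card_zpowers, orderOf_injective f hfinj, hx₀]
  obtain ⟨P, hP⟩ := sylow_three k hk _ hxcard
  obtain ⟨Q, hQ⟩ := sylow_three k hk _ hwcard
  obtain ⟨g, hg⟩ := MulAction.exists_smul_eq (GL (Fin 2) (ZMod (2 ^ k))) P Q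
  set c := (MulAut.conj g).toMonoidHom with hc
  have hmem : c (f x₀) ∈ Subgroup.zpowers w := by
    rw [← hQ, ← hg, Sylow.coe_subgroup_smul]
    exact ⟨f x₀, hP ▸ Subgroup.mem_zpowers _, rfl⟩
  have hord : orderOf (c (f x₀)) = 3 := by
    rw [orderOf_injective c (MulAut.conj g).injective, ← Nat.card_zpowers, hxcard]
  have hcases : c (f x₀) = w ∨ c (f x₀) = w⁻¹ := by
    obtain ⟨i, hi⟩ := mem_powers_iff_mem_zpowers.2 hmem
    have hw3 : w ^ 3 = 1 := by
      have := pow_orderOf_eq_one w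
      rwa [← Nat.card_zpowers, hwcard] at this
    have hi' : w ^ (i % 3) = c (f x₀) := (pow_eq_pow_mod i hw3).symm.trans hi
    have hlt := Nat.mod_lt i (show 3 > 0 by norm_num)
    interval_cases h : i % 3
    · rw [pow_zero] at hi'
      rw [← hi', orderOf_one] at hord
      omega
    · exact Or.inl (by rw [← hi', pow_one])
    · refine Or.inr (eq_inv_of_mul_eq_one_left ?_)
      rw [← hi', ← pow_succ, hw3]
  refine ⟨g, c (f a₀), ?_, ?_⟩
  · rcases hcases with h | h
    · exact h ▸ (hr.map f hfinj).map c (MulAut.conj g).injective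
    · have := (hr'.map f hfinj).map c (MulAut.conj g).injective
      rwa [map_inv, map_inv, h, inv_inv] at this
  · rw [hrange, ← hc, MonoidHom.map_closure, Set.image_insert_eq, Set.image_singleton]
    rcases hcases with h | h <;> rw [h]
    apply le_antisymm <;> rw [Subgroup.closure_le] <;> rintro y (rfl | rfl)
    · exact Subgroup.subset_closure (Set.mem_insert _ _)
    · exact inv_mem (Subgroup.subset_closure (Set.mem_insert_of_mem _ rfl))
    · exact Subgroup.subset_closure (Set.mem_insert _ _)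
    · exact inv_inv w ▸ inv_mem (Subgroup.subset_closure (Set.mem_insert_of_mem _ rfl))

theorem conjugate (hk : 1 ≤ k) (H₁ H₂ : Subgroup (GL (Fin 2) (ZMod (2 ^ k))))
    (e₁ : H₁ ≃* alternatingGroup (Fin 4)) (e₂ : H₂ ≃* alternatingGroup (Fin 4)) :
    ∃ g, H₂ = H₁.map (MulAut.conj g).toMonoidHom := by
  obtain ⟨g₁, a₁, hr₁, hH₁⟩ := conj_standard k hk H₁ e₁
  obtain ⟨g₂, a₂, hr₂, hH₂⟩ := conj_standard k hk H₂ e₂
  have heq : H₁.map (MulAut.conj g₁).toMonoidHom = H₂.map (MulAut.conj g₂).toMonoidHom := by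
    rw [hH₁, hH₂]
    have hsub : ∀ {a b : GL (Fin 2) (ZMod (2 ^ k))}, Rel a (omU k) → Rel b (omU k) →
        Subgroup.closure {b, omU k} ≤ Subgroup.closure {a, omU k} := by
      intro a b ha hb
      rw [Subgroup.closure_le]
      rintro y (rfl | rfl)
      · exact canonical k hk ha hb
      · exact Subgroup.subset_closure (Set.mem_insert_of_mem _ rfl)
    exact le_antisymm (hsub hr₂ hr₁) (hsub hr₁ hr₂)
  refine ⟨g₂⁻¹ * g₁, ?_⟩
  rw [map_mul]
  show H₂ = H₁.map ((MulAut.conj g₂⁻¹).toMonoidHom.comp (MulAut.conj g₁).toMonoidHom)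
  rw [← Subgroup.map_map, heq, Subgroup.map_map]
  convert (Subgroup.map_id H₂).symm using 2
  refine MonoidHom.ext fun y => ?_
  simp [mul_assoc]

end CfsgLib.GLTwoAdic
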